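import Groth.Agent.Lib.K0Sub.Dev
import Groth.Agent.Lib.CMReg.Koszul
import Groth.Agent.Lib.Cohom.Compare
import Groth.Agent.Lib.QCoh.LocGenCases
import Groth.Agent.Lib.OX.ExtZeroOpen
import Groth.Agent.Lib.FunMor20.Glue
import Groth.Agent.Lib.ModDesc.Approx
import Groth.Agent.Lib.OX.AffineReflect
import Groth.Agent.Lib.Cohom.RpushModules

/-!
# Cohomology of coherent modules isomorphic off a closed subscheme of small cohomological dimension
-/

set_option backward.isDefEq.respectTransparency false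

universe u

open CategoryTheory CategoryTheory.Limits CategoryTheory.Abelian AlgebraicGeometry Opposite TopologicalSpace

namespace GrothLib.SuppIso

variable {X Z : Scheme.{u}} (ι : Z ⟶ X) [IsClosedImmersion ι] (k : ℕ)

/-- Cohomology in degrees above `k` of modules supported on `Z` vanishes. -/
theorem subsingleton_HH_of_supp [IsNoetherian X]
    (hcd : ∀ G : Z.Modules, Coh.IsQCoh G → ∀ i : ℕ, k + 1 ≤ i → Subsingleton (Coh.HH Z G i))
    {M : X.Modules} (hM : Coh.IsCoh M) (hs : CohB1.support M ⊆ Set.range ι) (i : ℕ) (hi : k + 1 ≤ i) :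
    Subsingleton (Coh.HH X M i) := by
  haveI := hM.1
  have hkill : ∀ {G : X.Modules}, K0Sub.killedP ι G → Subsingleton (Coh.HH X G i) := fun {G} hG => by
    haveI := hG.1.1
    haveI := QCoh.isIso_unit_of_killed ι G hG.2
    haveI : ((Scheme.Modules.pullback ι).obj G).IsQuasicoherent := FittSheaf.isQuasicoherent_pullback ι G
    obtain ⟨e⟩ := Cohom.nonempty_HH_equiv_pushforward ι ((Scheme.Modules.pullback ι).obj G) i
    have h := hcd ((Scheme.Modules.pullback ι).obj G) inferInstance i hi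
    exact CMReg.subsingleton_of_iso (asIso ((Scheme.Modules.pullbackPushforwardAdjunction ι).unit.app G)).symm
      e.symm.injective.subsingleton
  obtain ⟨A, _, W, hW, -, hcov⟩ := QCoh.exists_finite_affine_cover (U := (⊤ : X.Opens)) (by simpa using isCompact_univ)
  choose N hN using fun a => K0Sub.exists_ideal_pow_smul_eq_bot ι hM hs ⟨W a, hW a⟩
  let N₀ := Finset.univ.sup N
  have hzero : IsZero (K0Sub.kf ι N₀ M) := by
    haveI := (K0Sub.isCoh_kf ι hM N₀).1
    exact OX.isZero_of_affine_cover (K0Sub.isCoh_kf ι hM N₀).1 W hW (fun x => Opens.mem_iSup.1 (hcov (Opens.mem_top x)))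
      fun a m => K0Sub.kf_sections_eq_zero ι hM ⟨W a, hW a⟩ (hN a) N₀ (Finset.le_sup (f := N) (Finset.mem_univ a)) m
  have hstep : ∀ n, Subsingleton (Coh.HH X (K0Sub.kf ι (n + 1) M) i) → Subsingleton (Coh.HH X (K0Sub.kf ι n M) i) :=
    fun n h => CMReg.subsingleton_X₂ (ShortComplex.ShortExact.mk' (ShortComplex.exact_cokernel (K0Sub.kfι ι n M))
      inferInstance inferInstance) h (hkill (K0Sub.killedP_cokernel ι hM n))
  have hN0 : Subsingleton (Coh.HH X (K0Sub.kf ι N₀ M) i) :=
    hkill (K0Sub.killedP_of_isZero ι hzero)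
  have key : ∀ d, d ≤ N₀ → Subsingleton (Coh.HH X (K0Sub.kf ι (N₀ - d) M) i) := by
    intro d hd
    induction d with
    | zero => exact hN0
    | succ d ih =>
      refine hstep _ ?_
      rw [show N₀ - (d + 1) + 1 = N₀ - d by omega]
      exact ih (by omega)
  have h := key N₀ le_rfl
  rw [Nat.sub_self] at h
  exact h

section LES

variable {S : ShortComplex X.Modules} (hS : S.ShortExact)

include hS in
theorem bijective_g {i : ℕ} (h₁ : Subsingleton (Coh.HH X S.X₁ i)) (h₁' : Subsingleton (Coh.HH X S.X₁ (i + 1))) :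
    Nonempty (Coh.HH X S.X₂ i ≃+ Coh.HH X S.X₃ i) := by
  have hT := QCoh.toAbFun_map_shortExact S hS
  refine ⟨AddEquiv.ofBijective (Sheaf.H.map ((QCoh.toAbFun X).map S.g) i) ⟨(injective_iff_map_eq_zero _).2 fun x hx => ?_, fun x => ?_⟩⟩
  · obtain ⟨y, hy⟩ := Ext.covariant_sequence_exact₂ _ hT
      (show Ext.{u} _ (S.map (QCoh.toAbFun X)).X₂ i from x) hx
    obtain rfl : y = 0 := Subsingleton.elim (α := Coh.HH X S.X₁ i) y 0
    rw [Ext.zero_comp] at hy
    exact hy.symm
  · obtain ⟨y, hy⟩ := Ext.covariant_sequence_exact₃ _ hT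
      (show Ext.{u} _ (S.map (QCoh.toAbFun X)).X₃ i from x) rfl (Subsingleton.elim (α := Coh.HH X S.X₁ (i + 1)) _ _)
    exact ⟨y, hy⟩

include hS in
theorem bijective_f {i : ℕ} (h₃ : Subsingleton (Coh.HH X S.X₃ i)) (h₃' : Subsingleton (Coh.HH X S.X₃ (i + 1))) :
    Nonempty (Coh.HH X S.X₁ (i + 1) ≃+ Coh.HH X S.X₂ (i + 1)) := by
  have hT := QCoh.toAbFun_map_shortExact S hS
  refine ⟨AddEquiv.ofBijective (Sheaf.H.map ((QCoh.toAbFun X).map S.f) (i + 1)) ⟨(injective_iff_map_eq_zero _).2 fun x hx => ?_, fun x => ?_⟩⟩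
  · obtain ⟨y, hy⟩ := Ext.covariant_sequence_exact₁ _ hT
      (show Ext.{u} _ (S.map (QCoh.toAbFun X)).X₁ (i + 1) from x) hx rfl
    obtain rfl : y = 0 := Subsingleton.elim (α := Coh.HH X S.X₃ i) y 0
    rw [Ext.zero_comp] at hy
    exact hy.symm
  · obtain ⟨y, hy⟩ := Ext.covariant_sequence_exact₂ _ hT
      (show Ext.{u} _ (S.map (QCoh.toAbFun X)).X₂ (i + 1) from x) (Subsingleton.elim (α := Coh.HH X S.X₃ (i + 1)) _ _)
    exact ⟨y, hy⟩

end LES

/-- A map which is an isomorphism off `Z` induces isomorphisms in degrees above `k + 1`. -/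
theorem nonempty_HH_of_iso_off [IsNoetherian X]
    (hcd : ∀ G : Z.Modules, Coh.IsQCoh G → ∀ i : ℕ, k + 1 ≤ i → Subsingleton (Coh.HH Z G i))
    (U : X.Opens) (hU : (U : Set X) = (Set.range ι.base)ᶜ) {G F : X.Modules} (hG : Coh.IsCoh G) (hF : Coh.IsCoh F)
    (p : G ⟶ F) [IsIso ((Scheme.Modules.restrictFunctor U.ι).map p)] (i : ℕ) (hi : k + 2 ≤ i) :
    Nonempty (Coh.HH X G i ≃+ Coh.HH X F i) := by
  have hbij : ∀ x, x ∉ Set.range ι → Function.Bijective (QCoh.stalkLin p x) := fun x hx => by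
    have hxU : x ∈ (U : Set X) := by rw [hU]; exact hx
    have h1 : Mono ((OX.stalk x).map p) := OX.mono_stalk_map_of_restrict U.ι p ⟨x, hxU⟩ inferInstance
    have h2 : Epi ((OX.stalk x).map p) := OX.epi_stalk_map_of_restrict U.ι p ⟨x, hxU⟩ inferInstance
    exact ⟨(ModuleCat.mono_iff_injective _).1 h1, (ModuleCat.epi_iff_surjective _).1 h2⟩
  have hKs : CohB1.support (kernel p) ⊆ Set.range ι := fun x hx => by
    by_contra h
    exact QCoh.notMem_support_kernel_of_injective p (hbij x h).1 hx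
  have hCs : CohB1.support (cokernel p) ⊆ Set.range ι := fun x hx => by
    by_contra h
    exact QCoh.notMem_support_cokernel_of_surjective p (hbij x h).2 hx
  have hK := subsingleton_HH_of_supp ι k hcd (QCoh.isCoh_kernel p hG hF) hKs
  have hC := subsingleton_HH_of_supp ι k hcd (QCoh.isCoh_cokernel p hG hF) hCs
  obtain ⟨w, hS₁⟩ := QCoh.shortExact_kernel_image p
  have hS₂ := QCoh.shortExact_image_cokernel p
  obtain ⟨e₁⟩ := bijective_g hS₁ (hK i (by omega)) (hK (i + 1) (by omega))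
  obtain ⟨j, rfl⟩ : ∃ j, i = j + 1 := ⟨i - 1, by omega⟩
  obtain ⟨e₂⟩ := bijective_f hS₂ (hC j (by omega)) (hC (j + 1) (by omega))
  exact ⟨e₁.trans e₂⟩

/-- Coherent modules isomorphic off `Z` are connected through a third one. -/
theorem exists_roof [IsNoetherian X] (U : X.Opens) {F F' : X.Modules} (hF : Coh.IsCoh F) (hF' : Coh.IsCoh F')
    (φ : F.restrict U.ι ≅ F'.restrict U.ι) :
    ∃ (G : X.Modules) (p : G ⟶ F) (q : G ⟶ F'), Coh.IsCoh G ∧ IsIso ((Scheme.Modules.restrictFunctor U.ι).map p) ∧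
      IsIso ((Scheme.Modules.restrictFunctor U.ι).map q) := by
  haveI := hF.1
  haveI := hF'.1
  let R := Scheme.Modules.restrictFunctor U.ι
  haveI : HasFiniteBiproducts X.Modules := HasFiniteBiproducts.of_hasFiniteCoproducts
  let B := F ⊞ F'
  haveI : B.IsQuasicoherent := Cohom.isQuasicoherent_biprod F F'
  haveI : R.Additive := (Scheme.Modules.restrictAdjunction U.ι).left_adjoint_additive
  let i : F.restrict U.ι ⟶ B.restrict U.ι := R.map biprod.inl + φ.hom ≫ R.map biprod.inr
  have hi1 : i ≫ R.map biprod.fst = 𝟙 _ := by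
    simp only [i, Preadditive.add_comp, Category.assoc, ← Functor.map_comp, biprod.inl_fst, biprod.inr_fst,
      CategoryTheory.Functor.map_id, Functor.map_zero, comp_zero, add_zero]
    rfl
  have hi2 : i ≫ R.map biprod.snd = φ.hom := by
    simp only [i, Preadditive.add_comp, Category.assoc, ← Functor.map_comp, biprod.inl_snd, biprod.inr_snd,
      CategoryTheory.Functor.map_id, Functor.map_zero, zero_add]
    exact Category.comp_id _
  haveI : IsSplitMono i := ⟨⟨R.map biprod.fst, hi1⟩⟩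
  have hres : Coh.IsCoh (F.restrict U.ι) := Cohom.isCoh_restrict F hF U.ι
  haveI := hres.1
  obtain ⟨G, i', e, -, hq, hft, he⟩ := QCoh.exists_finiteType_extension_qcqs (F := B) (U := U)
    (TopologicalSpace.NoetherianSpace.isCompact (U : Set X)) i hres.2
  refine ⟨G, i' ≫ biprod.fst, i' ≫ biprod.snd, ⟨hq, hft⟩, ?_, ?_⟩
  · have : (Scheme.Modules.restrictFunctor U.ι).map (i' ≫ biprod.fst) = e.hom := by
      rw [Functor.map_comp, ← he, Category.assoc, hi1]
      exact Category.comp_id _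
    rw [this]
    infer_instance
  · have : (Scheme.Modules.restrictFunctor U.ι).map (i' ≫ biprod.snd) = e.hom ≫ φ.hom := by
      rw [Functor.map_comp, ← he, Category.assoc, hi2]
    rw [this]
    infer_instance

end GrothLib.SuppIso
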